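import Mathlib.RingTheory.PowerSeries.Inverse
import Mathlib.RingTheory.PowerSeries.Order
import Mathlib.LinearAlgebra.Matrix.NonsingularInverse
import Mathlib.LinearAlgebra.Matrix.Block

/-! # Hermite forms of matrices over a power series ring in one variable over a field -/

universe u

namespace Groth.Agent.HermitePS

open PowerSeries Matrix

variable {k : Type u} [Field k] {r : ℕ}

/-- Upper triangular with monic monomial diagonal. -/
def IsTri (H : Matrix (Fin r) (Fin r) (PowerSeries k)) (e : Fin r → ℕ) : Prop :=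
  (∀ i, H i i = X ^ e i) ∧ ∀ i j, j < i → H i j = 0

theorem det_ne_zero_of_isTri {H : Matrix (Fin r) (Fin r) (PowerSeries k)} {e : Fin r → ℕ} (h : IsTri H e) :
    H.det ≠ 0 := by
  rw [Matrix.det_of_upperTriangular (M := H) (fun i j hij => h.2 i j hij), Finset.prod_ne_zero_iff]
  exact fun i _ => by rw [h.1]; exact pow_ne_zero _ X_ne_zero

theorem exists_unit_mul_X_pow {f : PowerSeries k} (hf : f ≠ 0) : ∃ (u : (PowerSeries k)ˣ) (e : ℕ), f = (u : PowerSeries k) * X ^ e := by
  obtain ⟨e, u, hu⟩ := IsDiscreteValuationRing.eq_unit_mul_pow_irreducible hf PowerSeries.X_irreducible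
  exact ⟨u, e, hu⟩

theorem exists_tri : ∀ {r : ℕ} (M : Matrix (Fin r) (Fin r) (PowerSeries k)), M.det ≠ 0 →
    ∃ (N H : Matrix (Fin r) (Fin r) (PowerSeries k)) (e : Fin r → ℕ), IsUnit N ∧ N * M = H ∧ IsTri H e := by
  intro r
  induction r with
  | zero => exact fun M _ => ⟨1, M, ![], isUnit_one, one_mul _, ⟨fun i => i.elim0, fun i => i.elim0⟩⟩
  | succ r ih =>
    intro M hM
    classical
    have hne : ∃ i, M i 0 ≠ 0 := by
      by_contra h
      push_neg at h
      exact hM (Matrix.det_eq_zero_of_column_eq_zero 0 h)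
    have hex : ∃ n : ℕ, ∃ (i : Fin (r + 1)) (u : (PowerSeries k)ˣ), M i 0 = (u : PowerSeries k) * X ^ n := by
      obtain ⟨i, hi⟩ := hne
      obtain ⟨u, n, h⟩ := exists_unit_mul_X_pow hi
      exact ⟨n, i, u, h⟩
    obtain ⟨i₀, u, hu⟩ := Nat.find_spec hex
    set a := Nat.find hex with ha
    have hdvd : ∀ i, ∃ c, M i 0 = c * M i₀ 0 := by
      intro i
      by_cases hi : M i 0 = 0
      · exact ⟨0, by rw [hi, zero_mul]⟩
      obtain ⟨v, n, h⟩ := exists_unit_mul_X_pow hi
      refine ⟨(v : PowerSeries k) * X ^ (n - a) * (↑u⁻¹ : PowerSeries k), ?_⟩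
      rw [h, hu, mul_assoc _ (↑u⁻¹ : PowerSeries k), ← mul_assoc (↑u⁻¹ : PowerSeries k), Units.inv_mul, one_mul, mul_assoc,
        ← pow_add, Nat.sub_add_cancel (Nat.find_min' hex ⟨i, v, h⟩)]
    choose c hc using hdvd
    let N : Matrix (Fin (r + 1)) (Fin (r + 1)) (PowerSeries k) := fun i l =>
      if i = 0 then (if l = i₀ then (↑u⁻¹ : PowerSeries k) else 0)
      else (if l = Equiv.swap 0 i₀ i then 1 else 0) - (if l = i₀ then c (Equiv.swap 0 i₀ i) else 0)
    have hNM : ∀ i j, (N * M) i j = if i = 0 then (↑u⁻¹ : PowerSeries k) * M i₀ j else M (Equiv.swap 0 i₀ i) j - c (Equiv.swap 0 i₀ i) * M i₀ j := by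
      intro i j
      rw [Matrix.mul_apply]
      by_cases hi : i = 0
      · simp [N, hi, ite_mul]
      · simp [N, hi, sub_mul, ite_mul, Finset.sum_sub_distrib]
    have hN : IsUnit N := by
      let N' : Matrix (Fin (r + 1)) (Fin (r + 1)) (PowerSeries k) := fun l i =>
        if l = i₀ then (if i = 0 then (u : PowerSeries k) else 0)
        else (if i = Equiv.swap 0 i₀ l then 1 else 0) + (if i = 0 then c l * u else 0)
      refine ⟨⟨N, N', ?_, mul_eq_one_comm.1 ?_⟩, rfl⟩ <;>
      · ext i j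
        rw [Matrix.mul_apply]
        by_cases hi : i = 0
        · subst hi
          simp only [N, if_true, ite_mul, zero_mul, Finset.sum_ite_eq', Finset.mem_univ]
          simp only [N', if_true, mul_ite, mul_zero, Units.inv_mul, Matrix.one_apply, eq_comm]
        · have hs : Equiv.swap 0 i₀ i ≠ i₀ := fun h => hi (by simpa using congrArg (Equiv.swap 0 i₀) h)
          simp only [N, if_neg hi, sub_mul, ite_mul, zero_mul, one_mul, Finset.sum_sub_distrib, Finset.sum_ite_eq', Finset.mem_univ, if_true]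
          simp only [N', if_true, if_neg hs, Equiv.swap_apply_self, mul_ite, mul_zero, Matrix.one_apply]
          rw [add_sub_cancel_right]
          simp only [eq_comm]
    have h00 : (N * M) 0 0 = X ^ a := by rw [hNM, if_pos rfl, hu, ← mul_assoc, Units.inv_mul, one_mul]
    have hs0 : ∀ i : Fin r, (N * M) i.succ 0 = 0 := fun i => by
      rw [hNM, if_neg (Fin.succ_ne_zero i), ← hc, sub_self]
    have hdet : ((N * M).submatrix Fin.succ Fin.succ).det ≠ 0 := by
      have h : (N * M).det ≠ 0 := by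
        rw [Matrix.det_mul]; exact mul_ne_zero ((Matrix.isUnit_iff_isUnit_det N).1 hN).ne_zero hM
      rw [Matrix.det_succ_column_zero, Fin.sum_univ_succ, Finset.sum_eq_zero (fun i _ => by rw [hs0, mul_zero, zero_mul]), add_zero] at h
      simp only [Fin.succAbove_zero] at h
      exact right_ne_zero_of_mul h
    obtain ⟨N₂, H₂, e₂, hN₂, h₂, hH₂⟩ := ih _ hdet
    obtain ⟨N₂', hN₂'⟩ := isUnit_iff_exists.1 hN₂
    let ext' : Matrix (Fin r) (Fin r) (PowerSeries k) → Matrix (Fin (r + 1)) (Fin (r + 1)) (PowerSeries k) := fun A i j =>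
      Fin.cases (Fin.cases 1 (fun _ => 0) j) (fun i' => Fin.cases 0 (fun j' => A i' j') j) i
    have hmul : ∀ A B, ext' A * ext' B = ext' (A * B) := fun A B => by
      refine Matrix.ext fun i j => ?_
      rw [Matrix.mul_apply, Fin.sum_univ_succ]
      refine Fin.cases ?_ (fun i => ?_) i <;> refine Fin.cases ?_ (fun j => ?_) j <;> simp [ext', Matrix.mul_apply]
    have hone : ext' 1 = 1 := by
      refine Matrix.ext fun i j => ?_
      refine Fin.cases ?_ (fun i => ?_) i <;> refine Fin.cases ?_ (fun j => ?_) j <;>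
        simp [ext', Matrix.one_apply, Fin.succ_ne_zero, (Fin.succ_ne_zero _).symm]
    have hU : IsUnit (ext' N₂) := ⟨⟨ext' N₂, ext' N₂', by rw [hmul, hN₂'.1, hone], by rw [hmul, hN₂'.2, hone]⟩, rfl⟩
    refine ⟨ext' N₂ * N, ext' N₂ * (N * M), Fin.cons a e₂, hU.mul hN, mul_assoc _ _ _, ?_, ?_⟩
    · intro i
      rw [Matrix.mul_apply, Fin.sum_univ_succ]
      refine Fin.cases ?_ (fun i => ?_) i
      · simp [ext', h00]
      · rw [Fin.cons_succ, ← hH₂.1, ← h₂]
        simp [ext', Matrix.mul_apply]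
    · intro i j hij
      rw [Matrix.mul_apply, Fin.sum_univ_succ]
      obtain ⟨i', rfl⟩ := Fin.exists_succ_eq.2 (fun h : i = 0 => by simp [h] at hij)
      revert hij
      refine Fin.cases ?_ (fun j => ?_) j
      · intro _; simp [ext', hs0]
      · intro hij
        rw [← hH₂.2 i' j (Fin.succ_lt_succ_iff.1 hij), ← h₂]
        simp [ext', Matrix.mul_apply]

theorem exists_split (f : PowerSeries k) (n : ℕ) : ∃ q, ∀ m, n ≤ m → coeff m (f + q * X ^ n) = 0 := by
  refine ⟨-PowerSeries.mk fun m => coeff (m + n) f, fun m hm => ?_⟩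
  obtain ⟨d, rfl⟩ : ∃ d, m = d + n := ⟨m - n, by omega⟩
  rw [map_add, coeff_mul_X_pow, map_neg, coeff_mk, add_neg_cancel]

/-- `1` plus a column `q` in place `j`. -/
noncomputable def colOp (q : Fin r → PowerSeries k) (j : Fin r) : Matrix (Fin r) (Fin r) (PowerSeries k) :=
  Matrix.of fun i l => (if i = l then 1 else 0) + (if l = j then q i else 0)

theorem colOp_mul (q q' : Fin r → PowerSeries k) (j : Fin r) (hq' : q' j = 0) : colOp q j * colOp q' j = colOp (q + q') j := by
  refine Matrix.ext fun i l => ?_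
  rw [Matrix.mul_apply]
  simp only [colOp, Matrix.of_apply, add_mul, Finset.sum_add_distrib, ite_mul, one_mul, zero_mul, Finset.sum_ite_eq, Finset.sum_ite_eq', Finset.mem_univ, if_true, Pi.add_apply]
  by_cases hl : l = j
  · subst hl; simp [hq', add_assoc, add_comm (q i)]
  · simp [hl, Ne.symm hl]

theorem isUnit_colOp (q : Fin r → PowerSeries k) (j : Fin r) (hq : q j = 0) : IsUnit (colOp q j) := by
  have h0 : colOp (0 : Fin r → PowerSeries k) j = 1 := Matrix.ext fun i l => by simp [colOp, Matrix.one_apply]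
  exact ⟨⟨colOp q j, colOp (-q) j, by rw [colOp_mul _ _ _ (by simp [hq]), add_neg_cancel, h0],
    by rw [colOp_mul _ _ _ hq, neg_add_cancel, h0]⟩, rfl⟩

theorem row_reduce {H : Matrix (Fin r) (Fin r) (PowerSeries k)} {e : Fin r → ℕ} (hH : IsTri H e) (j : Fin r) :
    ∃ N : Matrix (Fin r) (Fin r) (PowerSeries k), IsUnit N ∧ IsTri (N * H) e ∧ (∀ i l, l < j → (N * H) i l = H i l) ∧
      ∀ i, i < j → ∃ q, (N * H) i j = H i j + q * X ^ e j ∧ ∀ n, e j ≤ n → coeff n ((N * H) i j) = 0 := by
  choose q hq using fun i : Fin r => exists_split (H i j) (e j)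
  let q' : Fin r → PowerSeries k := fun i => if i < j then q i else 0
  let N := colOp q' j
  have hNH : ∀ i l, (N * H) i l = H i l + q' i * H j l := by
    intro i l
    rw [Matrix.mul_apply]
    simp [N, colOp, add_mul, Finset.sum_add_distrib, ite_mul]
  refine ⟨N, isUnit_colOp q' j (by simp [q']), ⟨fun i => ?_, fun i l hl => ?_⟩, fun i l hl => ?_, fun i hi => ⟨q i, ?_⟩⟩
  · rw [hNH, hH.1]
    by_cases h : i < j
    · rw [hH.2 j i h, mul_zero, add_zero]
    · simp [q', h]
  · rw [hNH, hH.2 i l hl, zero_add]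
    by_cases h : i < j
    · rw [hH.2 j l (hl.trans h), mul_zero]
    · simp [q', h]
  · rw [hNH, hH.2 j l hl, mul_zero, add_zero]
  · have h : (N * H) i j = H i j + q i * X ^ e j := by rw [hNH, hH.1, show q' i = q i from if_pos hi]
    exact ⟨h, fun n hn => h ▸ hq i n hn⟩

theorem exists_hermite_step {H : Matrix (Fin r) (Fin r) (PowerSeries k)} {e : Fin r → ℕ} (hH : IsTri H e) : ∀ t : ℕ,
    ∃ N : Matrix (Fin r) (Fin r) (PowerSeries k), IsUnit N ∧ IsTri (N * H) e ∧
      ∀ (i j : Fin r), i < j → (j : ℕ) < t → ∀ n, e j ≤ n → coeff n ((N * H) i j) = 0 := by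
  intro t
  induction t with
  | zero => exact ⟨1, isUnit_one, by rwa [one_mul], fun i j _ h => absurd h (Nat.not_lt_zero _)⟩
  | succ t ih =>
    obtain ⟨N, hN, hT, hred⟩ := ih
    by_cases ht : t < r
    · obtain ⟨N', hN', hT', hsame, hnew⟩ := row_reduce hT ⟨t, ht⟩
      refine ⟨N' * N, hN'.mul hN, by rwa [mul_assoc], fun i j hij hj n hn => ?_⟩
      rw [mul_assoc]
      rcases Nat.lt_succ_iff_lt_or_eq.1 hj with h | h
      · rw [hsame i j h]; exact hred i j hij h n hn
      · obtain rfl : j = ⟨t, ht⟩ := Fin.ext h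
        obtain ⟨_, _, h2⟩ := hnew i hij
        exact h2 n hn
    · exact ⟨N, hN, hT, fun i j hij hj => hred i j hij (lt_of_lt_of_le j.2 (Nat.le_of_not_lt ht))⟩

theorem exists_hermite (M : Matrix (Fin r) (Fin r) (PowerSeries k)) (hM : M.det ≠ 0) :
    ∃ (N : Matrix (Fin r) (Fin r) (PowerSeries k)) (e : Fin r → ℕ), IsUnit N ∧ IsTri (N * M) e ∧
      ∀ i j, i < j → ∀ n, e j ≤ n → coeff n ((N * M) i j) = 0 := by
  obtain ⟨N, H, e, hN, rfl, hT⟩ := exists_tri M hM
  obtain ⟨N', hN', hT', hred⟩ := exists_hermite_step hT r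
  exact ⟨N' * N, e, hN'.mul hN, by rwa [mul_assoc], fun i j hij n hn => by rw [mul_assoc]; exact hred i j hij j.2 n hn⟩

theorem unique_hermite {H H' U : Matrix (Fin r) (Fin r) (PowerSeries k)} {e e' : Fin r → ℕ} (hU : IsUnit U)
    (hH : IsTri H e) (hH' : IsTri H' e') (hr : ∀ i j, i < j → ∀ n, e j ≤ n → coeff n (H i j) = 0)
    (hr' : ∀ i j, i < j → ∀ n, e' j ≤ n → coeff n (H' i j) = 0) (hUH : U * H = H') : H = H' := by
  have key : ∀ {A A' V : Matrix (Fin r) (Fin r) (PowerSeries k)} {f f' : Fin r → ℕ}, IsTri A f → IsTri A' f' → V * A = A' →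
      (∀ i j, j < i → V i j = 0) ∧ ∀ i, V i i * X ^ f i = X ^ f' i := by
    intro A A' V f f' hA hA' hV
    have hlow : ∀ n : ℕ, ∀ i j : Fin r, (j : ℕ) = n → j < i → V i j = 0 := by
      intro n
      induction n using Nat.strong_induction_on with
      | h n ih =>
        intro i j hj hji
        have h := hA'.2 i j hji
        rw [← hV, Matrix.mul_apply, Finset.sum_eq_single j (fun l _ hl => ?_) (by simp), hA.1] at h
        · exact (mul_eq_zero.1 h).resolve_right (pow_ne_zero _ X_ne_zero)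
        · rcases lt_or_gt_of_ne hl with hlt | hlt
          · rw [ih l (hj ▸ hlt) i l rfl (hlt.trans hji), zero_mul]
          · rw [hA.2 l j hlt, mul_zero]
    refine ⟨fun i j h => hlow j i j rfl h, fun i => ?_⟩
    have h := hA'.1 i
    rw [← hV, Matrix.mul_apply, Finset.sum_eq_single i (fun l _ hl => ?_) (by simp), hA.1] at h
    · exact h
    · rcases lt_or_gt_of_ne hl with hlt | hlt
      · rw [hlow l i l rfl hlt, zero_mul]
      · rw [hA.2 l i hlt, mul_zero]
  obtain ⟨V, hVU, hUV⟩ := isUnit_iff_exists.1 hU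
  obtain ⟨hUlow, hUdiag⟩ := key hH hH' hUH
  obtain ⟨hVlow, hVdiag⟩ := key hH' hH (by rw [← hUH, ← mul_assoc, hUV, one_mul] : V * H' = H)
  have hee : e = e' := funext fun i => le_antisymm
    ((pow_dvd_pow_iff X_ne_zero PowerSeries.X_irreducible.not_isUnit).1 ⟨U i i, by rw [← hUdiag, mul_comm]⟩)
    ((pow_dvd_pow_iff X_ne_zero PowerSeries.X_irreducible.not_isUnit).1 ⟨V i i, by rw [← hVdiag, mul_comm]⟩)
  subst hee
  have hUii : ∀ i, U i i = 1 := fun i => mul_right_cancel₀ (pow_ne_zero (e i) X_ne_zero) (by rw [hUdiag, one_mul])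
  have hup : ∀ n : ℕ, ∀ i j : Fin r, (j : ℕ) = n → i < j → U i j = 0 ∧ H i j = H' i j := by
    intro n
    induction n using Nat.strong_induction_on with
    | h n ih =>
      intro i j hj hij
      have h : H' i j = H i j + U i j * X ^ e j := by
        rw [← hUH, Matrix.mul_apply, Fintype.sum_eq_add i j hij.ne, hUii, one_mul, hH.1]
        rintro l ⟨hli, hlj⟩
        rcases lt_or_gt_of_ne hlj with hlt | hlt
        · rcases lt_or_gt_of_ne hli with h' | h'
          · rw [hUlow i l h', zero_mul]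
          · rw [(ih l (hj ▸ hlt) i l rfl h').1, zero_mul]
        · rw [hH.2 l j hlt, mul_zero]
      have hz : U i j = 0 := PowerSeries.ext fun m => by
        have := congrArg (coeff (m + e j)) h
        rw [map_add, coeff_mul_X_pow, hr i j hij _ (by omega), hr' i j hij _ (by omega), zero_add] at this
        rw [← this, map_zero]
      exact ⟨hz, by rw [h, hz, zero_mul, add_zero]⟩
  refine Matrix.ext fun i j => ?_
  rcases lt_trichotomy i j with h | rfl | h
  · exact (hup j i j rfl h).2
  · rw [hH.1, hH'.1]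
  · rw [hH.2 i j h, hH'.2 i j h]

variable (k) in
/-- Power series in `X ^ p`. -/
def pSub (p : ℕ) : Subring (PowerSeries k) where
  carrier := {f | ∀ n, ¬ p ∣ n → coeff n f = 0}
  zero_mem' := fun n _ => map_zero _
  one_mem' := fun n hn => by rw [coeff_one, if_neg]; rintro rfl; exact hn (dvd_zero p)
  add_mem' := fun hf hg n hn => by rw [map_add, hf n hn, hg n hn, add_zero]
  neg_mem' := fun hf n hn => by rw [map_neg, hf n hn, neg_zero]
  mul_mem' := fun {f g} hf hg n hn => by
    rw [coeff_mul]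
    refine Finset.sum_eq_zero fun x hx => ?_
    rw [Finset.mem_antidiagonal] at hx
    by_cases h : p ∣ x.1
    · rw [hg x.2 (fun h2 => hn (hx ▸ dvd_add h h2)), mul_zero]
    · rw [hf x.1 h, zero_mul]

theorem exists_cancel (p : ℕ) (f : PowerSeries k) (a : ℕ) : ∃ q ∈ pSub k p, ∀ n, a ≤ n → n % p = a % p →
    coeff n (f + X ^ a * q) = 0 := by
  refine ⟨PowerSeries.mk fun m => if p ∣ m then -coeff (m + a) f else 0, fun n hn => by rw [coeff_mk, if_neg hn], fun n han hn => ?_⟩
  obtain ⟨d, rfl⟩ : ∃ d, n = d + a := ⟨n - a, by omega⟩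
  rw [map_add, mul_comm, coeff_mul_X_pow, coeff_mk, if_pos, add_neg_cancel]
  have := (Nat.modEq_iff_dvd' (Nat.le_add_left a d)).1 hn.symm
  rwa [Nat.add_sub_cancel] at this

theorem col_reduce (p : ℕ) {H : Matrix (Fin r) (Fin r) (PowerSeries k)} {e : Fin r → ℕ} (hH : IsTri H e) (j : Fin r) :
    ∀ t : ℕ, ∃ q : Fin r → PowerSeries k, (∀ i, q i ∈ pSub k p) ∧ (∀ i, j ≤ i ∨ (i : ℕ) + t < j → q i = 0) ∧
      ∀ i, i < j → (j : ℕ) ≤ (i : ℕ) + t → ∀ n, e i ≤ n → n % p = e i % p → coeff n (H i j + ∑ l, H i l * q l) = 0 := by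
  intro t
  induction t with
  | zero => exact ⟨fun _ => 0, fun _ => zero_mem _, fun _ _ => rfl, fun i h1 h2 => absurd h2 (by omega)⟩
  | succ t ih =>
    obtain ⟨q, hq, hq0, hc⟩ := ih
    by_cases ht : t < (j : ℕ)
    · let i₀ : Fin r := ⟨j - (t + 1), by omega⟩
      obtain ⟨c, hcm, hcc⟩ := exists_cancel p (H i₀ j + ∑ l, H i₀ l * q l) (e i₀)
      have hi₀j : i₀ < j := Fin.lt_def.2 (by simp only [i₀]; omega)
      have hqi₀ : q i₀ = 0 := hq0 i₀ (Or.inr (by simp only [i₀]; omega))
      have hsum : ∀ i, H i j + ∑ l, H i l * Function.update q i₀ c l = (H i j + ∑ l, H i l * q l) + H i i₀ * c := by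
        intro i
        rw [add_assoc]
        congr 1
        rw [← Finset.add_sum_erase Finset.univ _ (Finset.mem_univ i₀), ← Finset.add_sum_erase Finset.univ (fun l => H i l * q l) (Finset.mem_univ i₀),
          Function.update_self, hqi₀, mul_zero, zero_add, add_comm]
        congr 1
        exact Finset.sum_congr rfl fun l hl => by rw [Function.update_of_ne (Finset.ne_of_mem_erase hl)]
      refine ⟨Function.update q i₀ c, fun i => ?_, fun i hi => ?_, fun i h1 h2 n hn hnp => ?_⟩
      · rcases eq_or_ne i i₀ with rfl | h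
        · rwa [Function.update_self]
        · rw [Function.update_of_ne h]; exact hq i
      · rw [Function.update_of_ne (by rintro rfl; rcases hi with h | h; exact absurd h (not_le.2 hi₀j); simp only [i₀] at h; omega)]
        exact hq0 i (hi.imp id (fun h => by omega))
      · rw [hsum]
        rcases Nat.lt_or_ge ((i : ℕ) + t) j with h | h
        · obtain rfl : i = i₀ := Fin.ext (by simp only [i₀]; omega)
          rw [hH.1]
          exact hcc n hn hnp
        · rw [hH.2 i i₀ (Fin.lt_def.2 (by simp only [i₀]; omega)), zero_mul, add_zero]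
          exact hc i h1 h n hn hnp
    · exact ⟨q, hq, fun i hi => hq0 i (hi.imp id (fun h => by omega)), fun i h1 h2 => hc i h1 (by omega)⟩

theorem exists_reduced_step (p : ℕ) {H : Matrix (Fin r) (Fin r) (PowerSeries k)} {e : Fin r → ℕ} (hH : IsTri H e) : ∀ t : ℕ,
    ∃ N P : Matrix (Fin r) (Fin r) (PowerSeries k), IsUnit N ∧ IsUnit P ∧ (∀ i j, P i j ∈ pSub k p) ∧ IsTri (N * H * P) e ∧
      ∀ (i j : Fin r), i < j → (j : ℕ) < t → ∀ n, (e j ≤ n ∨ (e i ≤ n ∧ n % p = e i % p)) → coeff n ((N * H * P) i j) = 0 := by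
  intro t
  induction t with
  | zero =>
    exact ⟨1, 1, isUnit_one, isUnit_one, fun i j => by rw [Matrix.one_apply]; split_ifs <;> simp,
      by rwa [one_mul, mul_one], fun i j _ h => absurd h (Nat.not_lt_zero _)⟩
  | succ t ih =>
    obtain ⟨N, P, hN, hP, hPm, hT, hred⟩ := ih
    by_cases ht : t < r
    · let j₀ : Fin r := ⟨t, ht⟩
      obtain ⟨q, hq, hq0, hc⟩ := col_reduce p hT j₀ r
      let Q := colOp q j₀
      have hGQ : ∀ i l, (N * H * P * Q) i l = (N * H * P) i l + if l = j₀ then ∑ x, (N * H * P) i x * q x else 0 := by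
        intro i l
        rw [Matrix.mul_apply (M := N * H * P) (N := Q)]
        by_cases hl : l = j₀ <;> simp [Q, colOp, hl, mul_add, Finset.sum_add_distrib]
      have hTQ : IsTri (N * H * P * Q) e := by
        refine ⟨fun i => ?_, fun i l hl => ?_⟩
        · rw [hGQ, hT.1]
          split_ifs with h
          · rw [Finset.sum_eq_zero, add_zero]
            intro x _
            rcases lt_or_ge x i with hx | hx
            · rw [hT.2 i x hx, zero_mul]
            · rw [hq0 x (Or.inl (h ▸ hx)), mul_zero]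
          · rw [add_zero]
        · rw [hGQ, hT.2 i l hl, zero_add]
          split_ifs with h
          · refine Finset.sum_eq_zero fun x _ => ?_
            rcases lt_or_ge x i with hx | hx
            · rw [hT.2 i x hx, zero_mul]
            · rw [hq0 x (Or.inl (h ▸ hl.le.trans hx)), mul_zero]
          · rfl
      obtain ⟨N', hN', hT', hsame, hnew⟩ := row_reduce hTQ j₀
      have hassoc : N' * N * H * (P * Q) = N' * (N * H * P * Q) := by simp only [mul_assoc]
      refine ⟨N' * N, P * Q, hN'.mul hN, hP.mul (isUnit_colOp q j₀ (hq0 _ (Or.inl le_rfl))), fun i l => ?_, by rwa [hassoc], fun i j hij hj n hn => ?_⟩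
      · rw [Matrix.mul_apply]
        refine sum_mem fun x _ => mul_mem (hPm i x) (add_mem ?_ ?_)
        · split_ifs <;> simp
        · split_ifs
          · exact hq x
          · exact zero_mem _
      · rw [hassoc]
        rcases Nat.lt_succ_iff_lt_or_eq.1 hj with h | h
        · rw [hsame i j h, hGQ, if_neg (fun he => by simp [he, j₀] at h), add_zero]
          exact hred i j hij h n hn
        · obtain rfl : j = j₀ := Fin.ext h
          obtain ⟨q', h1, h2⟩ := hnew i hij
          rcases le_or_gt (e j₀) n with hle | hlt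
          · exact h2 n hle
          · obtain ⟨han, hnp⟩ := hn.resolve_left (not_le.2 hlt)
            rw [h1, map_add, coeff_mul_X_pow', if_neg (not_le.2 hlt), add_zero, hGQ, if_pos rfl]
            exact hc i hij (by have := j₀.2; omega) n han hnp
    · exact ⟨N, P, hN, hP, hPm, hT, fun i j hij hj => hred i j hij (lt_of_lt_of_le j.2 (Nat.le_of_not_lt ht))⟩

end Groth.Agent.HermitePS
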